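import Groth.Agent.TwistShriek.SurfCurve
import Groth.Agent.TwistShriek.SurfSec
import Groth.Agent.ProjTwist.Vanish
import Groth.Agent.CurveLib.GlobalFun
import Groth.Agent.SingRRLib.Core
import Groth.Agent.REqLib.P1Line
import Groth.Agent.S10829
import Groth.Agent.GenSeesawLib.Glue
import Groth.Agent.PointTwistLib.Basic
import Groth.Agent.CastLib.ExcCriterion
import Groth.Agent.NakaiLib.Apps
import Groth.Agent.NakaiLib.Hodge
import Groth.Prelude.Def_ega3

/-!
# A closed fibre which is a projective line
-/

set_option autoImplicit false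
set_option backward.isDefEq.respectTransparency false
set_option backward.isDefEq.respectTransparency.types false
set_option linter.style.haveILetI false
set_option linter.unusedSectionVars false
set_option maxHeartbeats 800000
set_option synthInstance.maxHeartbeats 200000

universe u

open CategoryTheory CategoryTheory.Limits AlgebraicGeometry TopologicalSpace

noncomputable section

namespace Groth.Agent.RuledPushLib

variable (k : Type u) [Field k] [IsAlgClosed k] {X C : Scheme.{u}}
  [X.Over (Spec (CommRingCat.of k))] [IsProper (X ↘ Spec (CommRingCat.of k))]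
  [C.Over (Spec (CommRingCat.of k))] [IsProper (C ↘ Spec (CommRingCat.of k))]
  (π : X ⟶ C) (hπ : π ≫ (C ↘ Spec (CommRingCat.of k)) = X ↘ Spec (CommRingCat.of k))
  (y : C) (hy : IsClosed ({y} : Set C))

/-- The map from the ground field to a residue field. -/
def resMap : CommRingCat.of k ⟶ C.residueField y :=
  Spec.preimage (C.fromSpecResidueField y ≫ (C ↘ Spec (CommRingCat.of k)))

include hy in
theorem bijective_resMap : Function.Bijective (resMap k y).hom := by
  haveI : IsClosedImmersion (C.fromSpecResidueField y) := isClosed_singleton_iff_isClosedImmersion.1 hy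
  haveI : IsFinite (C.fromSpecResidueField y ≫ (C ↘ Spec (CommRingCat.of k))) :=
    IsFinite.iff_isProper_and_isAffineHom.2 ⟨inferInstance, inferInstance⟩
  haveI : IsFinite (Spec.map (resMap k y)) := by
    rw [resMap, Spec.map_preimage]; infer_instance
  have h : (resMap k y).hom.Finite := (IsFinite.SpecMap_iff _).1 inferInstance
  letI := (resMap k y).hom.toAlgebra
  haveI : Module.Finite k (C.residueField y) := h
  exact IsAlgClosed.algebraMap_bijective_of_isIntegral (k := k) (K := C.residueField y)

include hπ in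
theorem fiberι_over : π.fiberι y ≫ (X ↘ Spec (CommRingCat.of k)) =
    π.fiberToSpecResidueField y ≫ Spec.map (CommRingCat.ofHom (resMap k y).hom) := by
  rw [← hπ, ← Category.assoc, Scheme.Hom.fiber_fac, Category.assoc]
  exact congrArg _ (Spec.map_preimage _).symm

include hy in
theorem isClosedImmersion_fiberι : IsClosedImmersion (π.fiberι y) := by
  haveI : IsClosedImmersion (C.fromSpecResidueField y) := isClosed_singleton_iff_isClosedImmersion.1 hy
  exact MorphismProperty.pullback_fst _ _ inferInstance

include hπ in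
/-- Global functions act in the same way over the ground field and over the residue field. -/
theorem toGlobal_fiber (a : k) :
    Coh.toGlobal (π.fiberι y ≫ (X ↘ Spec (CommRingCat.of k))) a =
      Coh.toGlobal (X := π.fiber y) (A := C.residueField y) (π.fiberToSpecResidueField y) ((resMap k y).hom a) := by
  rw [fiberι_over k π hπ y]
  exact CastLib.toGlobal_comp_specMap _ _ a

include hπ hy in
/-- Dimensions over the residue field of a closed point are dimensions over the ground field. -/
theorem fiberRank_eq (F : X.Modules) (p : ℕ) :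
    letI : (π.fiber y).Over (Spec (CommRingCat.of k)) := ⟨π.fiberι y ≫ (X ↘ Spec (CommRingCat.of k))⟩
    CohIII.fiberRank π F p y =
      Module.finrank k (Coh.HH (π.fiber y) ((Scheme.Modules.pullback (π.fiberι y)).obj F) p) := by
  letI : (π.fiber y).Over (Spec (CommRingCat.of k)) := ⟨π.fiberι y ≫ (X ↘ Spec (CommRingCat.of k))⟩
  let i : k ≃+* C.residueField y := RingEquiv.ofBijective _ (bijective_resMap k y hy)
  refine (congrArg Cardinal.toNat (rank_eq_of_equiv_equiv (R := k) (R' := C.residueField y)
    (M := Coh.HH (π.fiber y) ((Scheme.Modules.pullback (π.fiberι y)).obj F) p)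
    (M₁ := CohIII.fiberH π F y p) i (AddEquiv.refl _) i.bijective fun a x => ?_)).symm
  exact congrArg (fun c : Coh.Γtop (π.fiber y) => c • x) (toGlobal_fiber k π hπ y a)

include k in
theorem comap_point : (Scheme.IdealSheafData.vanishingIdeal (⟨{y}, hy⟩ : Closeds C)).comap π =
    (π.fiberι y).ker := by
  haveI : IsClosedImmersion (C.fromSpecResidueField y) := isClosed_singleton_iff_isClosedImmersion.1 hy
  rw [← PointTwistLib.ker_fromSpecResidueField (k := k) hy, ← Scheme.IdealSheafData.ker_fst_of_isClosedImmersion]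
  rfl

section Line

variable (e : pullback π (C.fromSpecResidueField y) ≅ CohB1.ProjSpace 1 k)

include e in
theorem isIntegral_fiber : IsIntegral (π.fiber y) := by
  haveI : IsIntegral (CohB1.ProjSpace 1 k) := REqLib.isIntegral_proj_domain 1 k
  haveI : Nonempty (π.fiber y) := ⟨e.inv (genericPoint (CohB1.ProjSpace 1 k))⟩
  exact IsIntegral.of_isIso e.inv

include e in
theorem dim_fiber : topologicalKrullDim (π.fiber y) = 1 := by
  have hP : topologicalKrullDim (CohB1.ProjSpace 1 k) = 1 := by exact_mod_cast S10829.result k 1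
  rw [← hP]
  exact (e.hom.homeomorph).isHomeomorph.topologicalKrullDim_eq

include e in
theorem subsingleton_H1_fiber : Subsingleton (Coh.HH (π.fiber y) (Coh.structureModule (π.fiber y)) 1) := by
  refine GenSeesawLib.subsingleton_HH_structureModule_of_isIso e.inv 1 ?_
  let ψ : Coh.structureModule (CohB1.ProjSpace 1 k) ≅ Twist.twistProjSpace 1 k 0 :=
    @asIso _ _ _ _ (Groth.Agent.ProjCoh.unitToTwist (CohB1.polyGrading 1 k)) Groth.Agent.ProjCoh.isIso_unitToTwist
  exact CurveLib.subsingleton_HH_iso ψ.symm 1
    (ProjTwist.subsingleton_HH_pos (n := 1) (R := k) 0 0 (Or.inl (by norm_num)))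

include hπ hy e in
theorem h0_fiber :
    letI : (π.fiber y).Over (Spec (CommRingCat.of k)) := ⟨π.fiberι y ≫ (X ↘ Spec (CommRingCat.of k))⟩
    Module.finrank k (Coh.HH (π.fiber y) (Coh.structureModule (π.fiber y)) 0) = 1 := by
  letI : (π.fiber y).Over (Spec (CommRingCat.of k)) := ⟨π.fiberι y ≫ (X ↘ Spec (CommRingCat.of k))⟩
  haveI := isClosedImmersion_fiberι π y hy
  haveI := isIntegral_fiber k π y e
  haveI : IsProper (π.fiber y ↘ Spec (CommRingCat.of k)) :=
    inferInstanceAs (IsProper (π.fiberι y ≫ (X ↘ Spec (CommRingCat.of k))))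
  exact CurveLib.finrank_H0_structure

include hπ hy e in
/-- Global functions on the fibre are constants. -/
theorem bijective_fiber : Function.Bijective (algebraMap (C.residueField y) Γ(π.fiber y, ⊤)) := by
  letI : (π.fiber y).Over (Spec (CommRingCat.of k)) := ⟨π.fiberι y ≫ (X ↘ Spec (CommRingCat.of k))⟩
  haveI := isClosedImmersion_fiberι π y hy
  haveI := isIntegral_fiber k π y e
  haveI : IsProper (π.fiber y ↘ Spec (CommRingCat.of k)) :=
    inferInstanceAs (IsProper (π.fiberι y ≫ (X ↘ Spec (CommRingCat.of k))))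
  haveI := EulerIneqLib.isNoetherian_proper (X := π.fiber y) k
  haveI := EulerIneqLib.finite_HH (k := k) (DevLib.isCoh_structureModule (π.fiber y)) 0
  let φ : k →+* Γ(π.fiber y, ⊤) := Coh.toGlobal (π.fiber y ↘ Spec (CommRingCat.of k))
  letI := φ.toAlgebra
  let j : Coh.HH (π.fiber y) (Coh.structureModule (π.fiber y)) 0 ≃ₗ[k] Γ(π.fiber y, ⊤) :=
    { (CurveLib.secOf (Coh.structureModule (π.fiber y))) with
      map_smul' := fun r c => CurveLib.secOf_smul (k := k) _ r c }
  haveI : Module.Finite k Γ(π.fiber y, ⊤) := Module.Finite.equiv j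
  have hs : Function.Bijective φ := IsAlgClosed.algebraMap_bijective_of_isIntegral (k := k) (K := Γ(π.fiber y, ⊤))
  have hc : φ = (algebraMap (C.residueField y) Γ(π.fiber y, ⊤)).comp (resMap k y).hom :=
    RingHom.ext fun a => toGlobal_fiber k π hπ y a
  rw [hc, RingHom.coe_comp] at hs
  exact (Function.Bijective.of_comp_iff _ (bijective_resMap k y hy)).1 hs

variable [HasInjectiveResolutions X.Modules] (hdim : topologicalKrullDim X = 2) {L : X.Modules}
  (hL : PicF.IsInvertible L)
  (hE : PicF.IsInvertible (ClSub.idealMod ((Scheme.IdealSheafData.vanishingIdeal (⟨{y}, hy⟩ : Closeds C)).comap π)))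

include hπ hdim hL hE in
/-- The degree on a fibre is an intersection number. -/
theorem deg_fiber :
    letI : (π.fiber y).Over (Spec (CommRingCat.of k)) := ⟨π.fiberι y ≫ (X ↘ Spec (CommRingCat.of k))⟩
    Curv2.deg k (π.fiber y) ((Scheme.Modules.pullback (π.fiberι y)).obj L) 1 =
      - FGA.intNum k X 2 ![L, ClSub.idealMod ((Scheme.IdealSheafData.vanishingIdeal (⟨{y}, hy⟩ : Closeds C)).comap π)]
        (Coh.structureModule X) := by
  letI : (π.fiber y).Over (Spec (CommRingCat.of k)) := ⟨π.fiberι y ≫ (X ↘ Spec (CommRingCat.of k))⟩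
  haveI := isClosedImmersion_fiberι π y hy
  haveI : IsProper (π.fiber y ↘ Spec (CommRingCat.of k)) :=
    inferInstanceAs (IsProper (π.fiberι y ≫ (X ↘ Spec (CommRingCat.of k))))
  haveI := EulerIneqLib.isNoetherian_proper (X := X) k
  haveI := EulerIneqLib.isNoetherian_proper (X := π.fiber y) k
  haveI : Coh.IsQCoh (Coh.structureModule (π.fiber y)) := (DevLib.isCoh_structureModule (π.fiber y)).1
  have hd2 : topologicalKrullDim X ≤ ((2 : ℕ) : WithBot ℕ∞) := by exact_mod_cast hdim.le
  obtain ⟨q⟩ := TwistShriek.nonempty_quotMod_ker_iso (π.fiberι y)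
  rw [TwistShriek.intNum_eq_form k hd2 hL hE, Nakai.form_comm, Nakai.form, Nakai.cl_eq_neg_dif hE, neg_mul, map_neg,
    ← IntLib.pairing_quotMod k hE, neg_neg]
  have h : IntLib.pairing k (ClSub.quotMod (π.fiberι y).ker) (Nakai.cl hL) =
      Curv2.deg k (π.fiber y) ((Scheme.Modules.pullback (π.fiberι y)).obj L) 1 := by
    rw [IntLib.pairing_iso k q, Nakai.pairing_push k (π.fiberι y) rfl (DevLib.isCoh_structureModule _),
      Nakai.pullRing_cl, Nakai.pairing_cl, CurveLib.euler_iso (K := k) (AmpleLib.unitL _)]
    unfold Curv2.deg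
    simp
  rw [← h]
  exact congrArg (fun J => IntLib.pairing k (ClSub.quotMod J) (Nakai.cl hL)) (comap_point k π y hy).symm

include hπ hy e hdim hL hE in
/-- On a fibre of nonnegative degree there is no first cohomology and `d + 1` sections. -/
theorem fiber_cohomology (h : FGA.intNum k X 2
    ![L, ClSub.idealMod ((Scheme.IdealSheafData.vanishingIdeal (⟨{y}, hy⟩ : Closeds C)).comap π)]
      (Coh.structureModule X) ≤ 0) :
    Subsingleton (CohIII.fiberH π L y 1) ∧ (CohIII.fiberRank π L 0 y : ℤ) = 1 - FGA.intNum k X 2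
    ![L, ClSub.idealMod ((Scheme.IdealSheafData.vanishingIdeal (⟨{y}, hy⟩ : Closeds C)).comap π)]
      (Coh.structureModule X) := by
  letI : (π.fiber y).Over (Spec (CommRingCat.of k)) := ⟨π.fiberι y ≫ (X ↘ Spec (CommRingCat.of k))⟩
  haveI := isClosedImmersion_fiberι π y hy
  haveI := isIntegral_fiber k π y e
  haveI : IsProper (π.fiber y ↘ Spec (CommRingCat.of k)) :=
    inferInstanceAs (IsProper (π.fiberι y ≫ (X ↘ Spec (CommRingCat.of k))))
  haveI := subsingleton_H1_fiber k π y e
  have hg : Curv2.genus k (π.fiber y) = 0 := Module.finrank_zero_of_subsingleton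
  have hd : topologicalKrullDim (π.fiber y) ≤ 1 := (dim_fiber k π y e).le
  have h0 := h0_fiber k π hπ y hy e
  have hdeg := deg_fiber k π hπ y hy hdim hL hE
  have hLF : PicF.IsInvertible ((Scheme.Modules.pullback (π.fiberι y)).obj L) := AmpleLib.isInvertible_pullback _ hL
  have h1 : Subsingleton (Coh.HH (π.fiber y) ((Scheme.Modules.pullback (π.fiberι y)).obj L) 1) :=
    SingRRLib.subsingleton_H1_of_deg k hd h0 hLF (by rw [hg, hdeg]; omega)
  refine ⟨h1, ?_⟩
  have h2 := SingRRLib.euler_eq_deg k hd h0 ((Scheme.Modules.pullback (π.fiberι y)).obj L)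
  rw [CurveLib.euler_eq_sub (k := k) hd, hg, hdeg] at h2
  haveI := h1
  have h3 : Module.finrank k (Coh.HH (π.fiber y) ((Scheme.Modules.pullback (π.fiberι y)).obj L) 1) = 0 :=
    Module.finrank_zero_of_subsingleton
  rw [h3] at h2
  rw [fiberRank_eq k π hπ y hy L 0]
  omega

end Line

end Groth.Agent.RuledPushLib
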