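import Groth.Agent.RuledPushLib.Basic
import Groth.Agent.RuledPushLib.Fibre
import Groth.Agent.GenBCLib.RankGoal
import Groth.Agent.GenBCLib.Near
import Groth.Agent.GenBCLib.Helpers
import Groth.Agent.GenSeesawLib.Stein
import Groth.Agent.BCLib.SteinFlat
import Groth.Agent.AmpleEmb.RelVanish
import Groth.Agent.IntLib.Push
import Groth.Agent.OpenRestrH.Scheme
import Groth.Agent.CurveFF.Duality
import Groth.Agent.JacLib.IdealPull
import Groth.Agent.S8862
import Groth.Agent.S8914

/-!
# Direct images on ruled surfaces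
-/

set_option autoImplicit false
set_option backward.isDefEq.respectTransparency false
set_option backward.isDefEq.respectTransparency.types false
set_option linter.style.haveILetI false
set_option linter.unusedSectionVars false
set_option maxHeartbeats 1000000
set_option synthInstance.maxHeartbeats 200000

universe u

open CategoryTheory CategoryTheory.Limits AlgebraicGeometry TopologicalSpace Opposite

noncomputable section

namespace Groth.Agent.RuledPushLib

theorem exists_closed_spec {C : Scheme.{u}} [IsNoetherian C] (s : C) : ∃ y : C, IsClosed ({y} : Set C) ∧ s ⤳ y := by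
  obtain ⟨c, hc, hc'⟩ := IsClosed.exists_closed_singleton (isClosed_closure (s := ({s} : Set C)))
    ⟨s, subset_closure rfl⟩
  exact ⟨c, hc', specializes_iff_mem_closure.2 hc⟩

/-- A point of a noetherian scheme lies in every open neighbourhood of a closed specialisation. -/
theorem exists_nhd_of_closed {C : Scheme.{u}} [IsNoetherian C] {P : C.Opens → Prop}
    (h : ∀ y : C, IsClosed ({y} : Set C) → ∃ U : C.Opens, y ∈ U ∧ P U) (s : C) :
    ∃ U : C.Opens, s ∈ U ∧ P U := by
  obtain ⟨y, hy, hsy⟩ := exists_closed_spec s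
  obtain ⟨U, hyU, hU⟩ := h y hy
  exact ⟨U, hsy.mem_open U.2 hyU, hU⟩

variable (k : Type u) [Field k] [IsAlgClosed k] {X C : Scheme.{u}} [X.Over (Spec (CommRingCat.of k))]
  [IsProper (X ↘ Spec (CommRingCat.of k))] [IsIntegral X]
  [C.Over (Spec (CommRingCat.of k))] [IsIntegral C] [IsProper (C ↘ Spec (CommRingCat.of k))]
  (hdim : topologicalKrullDim X = 2) (hdimC : topologicalKrullDim C = 1)
  (hregC : ∀ x : C, IsRegularLocalRing (C.presheaf.stalk x))
  (π : X ⟶ C) (hπ : π ≫ (C ↘ Spec (CommRingCat.of k)) = X ↘ Spec (CommRingCat.of k))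
  (hsurj : Function.Surjective π)
  (hfib : ∀ y : C, IsClosed ({y} : Set C) → Nonempty (pullback π (C.fromSpecResidueField y) ≅ CohB1.ProjSpace 1 k))

include hπ in
theorem isProper_map : IsProper π := by
  haveI : IsProper (π ≫ (C ↘ Spec (CommRingCat.of k))) := hπ ▸ inferInstance
  exact IsProper.of_comp π (C ↘ Spec (CommRingCat.of k))

include k hdimC hregC hsurj in
theorem flat_map : Flat π := by
  haveI := EulerIneqLib.isNoetherian_proper (X := C) k
  haveI := CurveFF.isRegCurve_of_regular hdimC.le hregC
  haveI : IsDominant π := ⟨hsurj.denseRange⟩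
  exact flat_of_dominant π

include k hπ in
theorem lfp_map : LocallyOfFinitePresentation π := by
  haveI := isProper_map k π hπ
  haveI := EulerIneqLib.isNoetherian_proper (X := C) k
  rw [HasRingHomProperty.iff_appLE (P := @LocallyOfFinitePresentation)]
  intro W E e
  haveI : IsNoetherianRing ↥Γ(C, W) := IsLocallyNoetherian.component_noetherian W
  exact RingHom.FinitePresentation.of_finiteType.1
    (HasRingHomProperty.appLE (P := @LocallyOfFiniteType) π inferInstance W E e)

include k hdimC hregC hπ hsurj in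
theorem invertible_fibre (y : C) (hy : IsClosed ({y} : Set C)) :
    PicF.IsInvertible (ClSub.idealMod ((Scheme.IdealSheafData.vanishingIdeal (⟨{y}, hy⟩ : Closeds C)).comap π)) := by
  haveI := EulerIneqLib.isNoetherian_proper (X := X) k
  haveI := EulerIneqLib.isNoetherian_proper (X := C) k
  haveI := CurveFF.isRegCurve_of_regular hdimC.le hregC
  haveI := isProper_map k π hπ
  obtain ⟨hP, -⟩ := VBLib.point_ideal k hdimC hy
  haveI : Surjective π := ⟨hsurj⟩
  have hgen : π (genericPoint X) = genericPoint C := ((genericPoint_spec X).image π.continuous).eq (by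
    rw [Set.image_univ, hsurj.range_eq, closure_univ]
    exact genericPoint_spec C)
  have hne : genericPoint C ≠ y := by
    intro h
    have h1 := genericPoint_closure (α := C)
    rw [h, hy.closure_eq] at h1
    have h0 := topologicalKrullDim_zero_of_discreteTopology ({y} : Set C)
    rw [h1, (Homeomorph.Set.univ C).isHomeomorph.topologicalKrullDim_eq, hdimC] at h0
    exact absurd h0 (by norm_num)
  refine (S8914.result _).2 (S8862.result π _ ((S8914.result _).1 hP) fun w hw => ?_)
  rw [← hw (genericPoint X) (genericPoint_specializes w), hgen, ← SetLike.mem_coe,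
    Scheme.IdealSheafData.coe_support_vanishingIdeal]
  exact fun h => hne h

include hdimC hregC hπ hsurj hfib in
/-- `π_* O_X = O_C`. -/
theorem bijective_app (U : C.Opens) : Function.Bijective (π.app U).hom := by
  haveI := isProper_map k π hπ
  haveI := flat_map k hdimC hregC π hsurj
  haveI := lfp_map k π hπ
  haveI := EulerIneqLib.isNoetherian_proper (X := C) k
  haveI : IsIso (ClSub.unitToPush π) := by
    refine ParaFLib.isIso_of_locally_app _ fun s => ?_
    refine exists_nhd_of_closed (P := fun W : C.Opens => ∀ V : C.Opens, V ≤ W →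
      Function.Bijective ((ClSub.unitToPush π).app V)) (fun y hy => ?_) s
    obtain ⟨e⟩ := hfib y hy
    exact GenSeesawLib.exists_nhd_bijective_app π y (bijective_fiber k π hπ y hy e)
      (GenSeesawLib.subsingleton_fiberH_of_iso π (subsingleton_H1_fiber k π y e) (AmpleLib.pullO (π.fiberι y)).symm)
  exact ConcreteCategory.bijective_of_isIso ((ClSub.unitToPush π).app U)

variable [HasInjectiveResolutions X.Modules] {L : X.Modules} (hL : PicF.IsInvertible L)
  (hdeg : ∀ (y : C) (hy : IsClosed ({y} : Set C)), FGA.intNum k X 2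
    ![L, ClSub.idealMod ((Scheme.IdealSheafData.vanishingIdeal ⟨{y}, hy⟩).comap π)] (Coh.structureModule X) ≤ 0)

include hdim hdimC hregC hπ hsurj hfib hL hdeg in
/-- Higher direct images vanish when the degree on the fibres is nonnegative. -/
theorem isZero_rpush (p : ℕ) (hp : 0 < p) : IsZero ((Coh.Rpush π p).obj L) := by
  haveI := isProper_map k π hπ
  haveI := flat_map k hdimC hregC π hsurj
  haveI := lfp_map k π hπ
  haveI := EulerIneqLib.isNoetherian_proper (X := C) k
  have hlf := CurveLib.isFinLocFree_of_isInvertible hL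
  obtain ⟨hq, hfp⟩ := PullbackMod.isQCoh_and_isFP_of_isFinLocFree _ hlf
  haveI : Coh.IsQCoh L := hq
  have hfl : FlatMod.IsFlatOver π L := TildePerf.isFlatOver_of_isFinLocFree _ hlf
  refine GenBCLib.isZero_of_nhds _ fun s => ?_
  refine exists_nhd_of_closed (P := fun W : C.Opens => IsZero (((Coh.Rpush π p).obj L).restrict W.ι))
    (fun y hy => ?_) s
  obtain ⟨V, D, hs⟩ := GenBCLib.exists_dat_at hfp hfl y
  obtain ⟨e⟩ := hfib y hy
  have hsub : Subsingleton (CohIII.fiberH π L y p) := by
    rcases Nat.eq_or_lt_of_le hp with h | h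
    · obtain rfl : p = 1 := h.symm
      exact (fiber_cohomology k π hπ y hy e hdim hL (invertible_fibre k hdimC hregC π hπ hsurj y hy) (hdeg y hy)).1
    · exact GenBCLib.subsingleton_fiberH_of_dim π L 1 y (dim_fiber k π y e).le h
  obtain ⟨a, ha, -, -, hka⟩ := D.exists_vanish hs hsub
  exact ⟨_, ha, D.isZero_basicOpen le_rfl hka⟩

include hdim hdimC hregC hπ hsurj hfib hL in
/-- The direct image is locally free of rank `n + 1`. -/
theorem isFinLocFreeOfRank_push (n : ℕ) (hn : ∀ (y : C) (hy : IsClosed ({y} : Set C)), FGA.intNum k X 2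
    ![L, ClSub.idealMod ((Scheme.IdealSheafData.vanishingIdeal ⟨{y}, hy⟩).comap π)] (Coh.structureModule X) =
      -(n : ℤ)) :
    FlatMod.IsFinLocFreeOfRank (n + 1) ((Scheme.Modules.pushforward π).obj L) := by
  haveI := isProper_map k π hπ
  haveI := flat_map k hdimC hregC π hsurj
  haveI := lfp_map k π hπ
  haveI := EulerIneqLib.isNoetherian_proper (X := C) k
  have hlf := CurveLib.isFinLocFree_of_isInvertible hL
  obtain ⟨hq, hfp⟩ := PullbackMod.isQCoh_and_isFP_of_isFinLocFree _ hlf
  haveI : Coh.IsQCoh L := hq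
  have hfl : FlatMod.IsFlatOver π L := TildePerf.isFlatOver_of_isFinLocFree _ hlf
  haveI : Coh.IsQCoh ((Scheme.Modules.pushforward π).obj L) := QCohLib.isQCoh_pushforward L π
  have key : ∀ y : C, IsClosed ({y} : Set C) → ∃ U : C.Opens, y ∈ U ∧
      FlatMod.IsFinLocFree (((Scheme.Modules.pushforward π).obj L).restrict U.ι) ∧
      PullbackMod.FreeAt (n + 1) ((Scheme.Modules.pushforward π).obj L) y := fun y hy => by
    obtain ⟨V, D, hs⟩ := GenBCLib.exists_dat_at hfp hfl y
    obtain ⟨e⟩ := hfib y hy
    obtain ⟨h1, hr⟩ := fiber_cohomology k π hπ y hy e hdim hL (invertible_fibre k hdimC hregC π hπ hsurj y hy)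
      (by rw [hn y hy]; omega)
    obtain ⟨a, ha, -, hsa, -⟩ := D.exists_vanish hs (n := 1) h1
    refine ⟨_, ha, D.isFinLocFree_restrict_of_good hsa, ?_⟩
    have h : CohIII.fiberRank π L 0 y = n + 1 := by
      rw [hn y hy] at hr
      omega
    exact h ▸ D.freeAt_of_good ha hsa
  have hfree : FlatMod.IsFinLocFree ((Scheme.Modules.pushforward π).obj L) :=
    GenBCLib.isFinLocFree_of_nhds _ fun s => exists_nhd_of_closed
      (P := fun W : C.Opens => FlatMod.IsFinLocFree (((Scheme.Modules.pushforward π).obj L).restrict W.ι))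
      (fun y hy => let ⟨U, hyU, hU, _⟩ := key y hy; ⟨U, hyU, hU⟩) s
  refine (PullbackMod.isFinLocFreeOfRank_iff_freeAt _ (PullbackMod.isQCoh_and_isFP_of_isFinLocFree _ hfree).2 _).2
    fun s => ?_
  obtain ⟨y, hy, hsy⟩ := exists_closed_spec s
  obtain ⟨W, m, hyW, ⟨i⟩⟩ := hfree y
  obtain ⟨U, hyU, -, hU⟩ := key y hy
  obtain rfl := PullbackMod.freeAt_unique _ hU (PullbackMod.freeAt_of_restrict_iso _ i hyW)
  exact PullbackMod.freeAt_of_restrict_iso _ i (hsy.mem_open W.2 hyW)

include hdim hdimC hregC hπ hsurj hfib hL hdeg in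
/-- Cohomology on the surface is cohomology of the direct image on the curve. -/
theorem nonempty_pushLinEquiv (i : ℕ) :
    Nonempty (Coh.HH X L i ≃ₗ[k] Coh.HH C ((Scheme.Modules.pushforward π).obj L) i) := by
  haveI := isProper_map k π hπ
  haveI : Coh.IsQCoh L := InvExt.isQCoh_of_isInvertible hL
  have hM : ProperFin.AffAcyclic π L := fun V hV m => by
    haveI := AmpleEmb.subsingleton_HH_of_isZero_rpush π L hV (m + 1)
      (isZero_rpush k hdim hdimC hregC π hπ hsurj hfib hL hdeg (m + 1) m.succ_pos)
    obtain ⟨E⟩ := OpenRestrH.nonempty_HHon_equiv X L (π ⁻¹ᵁ V) (m + 1)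
    exact E.toEquiv.subsingleton
  obtain ⟨e, he⟩ := ProperFin.exists_pushEquiv π hM i
  exact ⟨{ e with
    map_smul' := fun a x => by
      show e (Coh.toGlobal (X ↘ Spec (CommRingCat.of k)) a • x) =
        Coh.toGlobal (C ↘ Spec (CommRingCat.of k)) a • e x
      rw [IntLib.toGlobal_comp k π hπ]
      exact he _ x }⟩

omit [IsProper (X ↘ Spec (CommRingCat.of k))] [IsIntegral X] [HasInjectiveResolutions X.Modules] in
/-- The trivial module has class zero. -/
theorem cl_structure {Y : Scheme.{u}} (h : PicF.IsInvertible (Coh.structureModule Y)) : Nakai.cl h = 0 := by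
  rw [Nakai.cl, show IntLib.inv' h = 1 from rfl, map_one, sub_self]

end Groth.Agent.RuledPushLib
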