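import Groth.Agent.GeomRedPtLib.RegSep
import Groth.Agent.VBLib.Regular

/-!
# Dominant morphisms to regular curves are flat
-/

set_option autoImplicit false
set_option backward.isDefEq.respectTransparency false
set_option linter.style.haveILetI false

universe u

open CategoryTheory CategoryTheory.Limits AlgebraicGeometry

noncomputable section

namespace Groth.Agent.RuledPushLib

/-- A dominant morphism from an integral scheme to a regular curve is flat. -/
theorem flat_of_dominant {X C : Scheme.{u}} [IsIntegral X] [IsIntegral C] [VBLib.IsRegCurve C] (f : X ⟶ C)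
    [IsDominant f] : Flat f := by
  refine (Flat.iff_flat_stalkMap f).2 fun x => ?_
  haveI := VBLib.IsRegCurve.pir (X := C) (f x)
  letI := (f.stalkMap x).hom.toAlgebra
  show Module.Flat (C.presheaf.stalk (f x)) (X.presheaf.stalk x)
  rw [Module.Flat.flat_iff_torsion_eq_bot_of_isBezout, Submodule.eq_bot_iff]
  intro m hm
  obtain ⟨a, ha⟩ := (Submodule.mem_torsion_iff _).1 hm
  have h : (f.stalkMap x).hom a.1 * m = 0 := ha
  refine (mul_eq_zero.1 h).resolve_left fun h0 => nonZeroDivisors.ne_zero a.2 ?_
  exact GeomRedPtLib.stalkMap_injective_of_dominant f x (h0.trans (map_zero _).symm)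

end Groth.Agent.RuledPushLib
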